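import Cfsg.Agent.Omega.NO3b.Exit.BlkTr

/-!
# (C)(2) of GammaFF, part 2: `dim Y_i ≥ 2` (helper194, #20969 (f4))

`V = ⊕ N_i ⊗_K Y_i` (`BlkTr.lean`).

* `relIndex_le` : if `E = Hom_Y(A, U)` has dimension `≤ 1`, then `|V / F| ≤ |A₀|`;
* `Blk0.relIndex_le` : if `V = ⟨z^{YM}⟩` for one `z ∈ C_V(S)`, then `|V / F| ≤ |A₀|`.
-/

set_option autoImplicit false

open scoped Pointwise

namespace Cfsg.Agent.Omega.NO3b.CTwoFF

open Subgroup Cfsg.Agent.Omega.NO3b.Exit Ten Descent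
open Cfsg.Agent.Omega.NO3b.Exit.BlkZ
open Cfsg.Agent.Omega.NO3b.Exit.TBlk hiding Blk

universe u v w

section mdl

variable {Y : Type u} {A : Type v} {U : Type w} [Group Y] [AddCommGroup A] [DistribMulAction Y A]
  [AddCommGroup U] [DistribMulAction Y U] {V F C : AddSubgroup U} {A₀ : AddSubgroup A} {Q : Subgroup Y}
  {β : A →+ U →+ U} [Finite A] [IsIrr Y A]

/-- `dim E ≤ 1` implies `|V / F| ≤ |A₀|` -/
theorem relIndex_le (D : Mdl V F C A₀ Q β) {f : HomY Y A U} (hf : ∀ g : HomY Y A U, ∃ κ : KK Y A, g = κ • f) :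
    F.relIndex V ≤ Nat.card A₀ := by
  obtain ⟨a, ha⟩ := D.nt
  obtain ⟨s, hs, hs0⟩ := D.ne
  let θ : KK Y A → V ⧸ F.addSubgroupOf V :=
    fun κ => QuotientAddGroup.mk (⟨(f : A →+ U) (κ • a), D.val_mem f _⟩ : V)
  have hθ : Function.Surjective θ := by
    intro q
    obtain ⟨⟨v, hv⟩, rfl⟩ := QuotientAddGroup.mk_surjective q
    obtain ⟨g, hg⟩ := D.val_surj ha hv
    obtain ⟨κ, rfl⟩ := hf g
    refine ⟨κ, ?_⟩
    refine QuotientAddGroup.eq.2 ?_
    rw [AddSubgroup.mem_addSubgroupOf]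
    rw [HomY.smul_apply] at hg
    change -(f : A →+ U) (κ • a) + v ∈ F
    rwa [neg_add_eq_sub]
  have h1 : Nat.card (V ⧸ F.addSubgroupOf V) ≤ Nat.card (KK Y A) := Nat.card_le_card_of_surjective θ hθ
  have h2 : Nat.card (KK Y A) ≤ Nat.card A₀ := by
    refine Nat.card_le_card_of_injective (fun κ => (⟨κ • s, D.smul_mem κ hs⟩ : A₀)) fun κ κ' h => ?_
    have h3 : κ • s = κ' • s := congrArg Subtype.val h
    by_contra hne
    apply hs0
    have h4 : κ - κ' ≠ 0 := sub_ne_zero.2 hne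
    have h5 : (κ - κ') • s = 0 := by rw [sub_smul, h3, sub_self]
    rw [← one_smul (KK Y A) s, ← inv_mul_cancel₀ h4, mul_smul, h5, smul_zero]
  exact h1.trans h2

end mdl

section blk

variable {H : Type u} {U : Type v} [Group H] [Finite H] [AddCommGroup U] [DistribMulAction H U] [Finite U]
variable {Y Q BB : Subgroup H} {V F L C : AddSubgroup U} {h : H} {M KV S : Subgroup H}

omit [Finite U] in
/-- `S` has odd index over `Y`. -/
theorem odd_Y (B : Blk0 Y Q BB V F L C h M KV S) : ¬ 2 ∣ S.relIndex Y := by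
  have h1 := B.odd_T (m := 1) (one_mem _)
  have e : S.map (MulAut.conj (1 : H)⁻¹).toMonoidHom = S := by
    rw [inv_one, map_one]
    exact Subgroup.map_id S
  rwa [e] at h1

/-- If `V = ⟨z^{YM}⟩`, `z ∈ C_V(S)`, then every element of `Hom_Y(A, U)` is a multiple of one of them. -/
theorem exists_one (B : Blk0 Y Q BB V F L C h M KV S) (hall : V ≤ B.all) {z : U} (hzV : z ∈ V)
    (hz : ∀ s ∈ S, s • z = z)
    (hgen : ∀ W : AddSubgroup U, (∀ y ∈ B.YM, ∀ w ∈ W, y • w ∈ W) → z ∈ W → V ≤ W) :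
    ∃ f : HomY Y (AM B.dat) U, ∀ g : HomY Y (AM B.dat) U, ∃ κ : KK Y (AM B.dat), g = κ • f := by
  have h1V : (1 : H) • V1 B.dat = V1 B.dat := one_smul _ _
  obtain ⟨a, ha, b, hb, e⟩ := B.mem_all (hall hzV) 1
  have haS : ∀ s ∈ S, s ∈ B.YM → s • a = a := fun s hs hsY => B.comp_fix (one_mem _) ha hb e (hz s hs) (B.YM_le hsY)
  have hYM : ∀ y ∈ Y, y ∈ B.YM := fun y hy => by
    have := B.conj_mem_YM (one_mem M) hy
    rwa [one_mul, inv_one, mul_one] at this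
  have hT' : ¬ 2 ∣ (S.subgroupOf Y).index := odd_Y B
  have hT2' : IsPGroup 2 (S.subgroupOf Y) := B.S2.comap_of_injective _ (subtype_injective Y)
  obtain ⟨n, -, hn0, hn⟩ := exists_fix (V := AM B.dat) (H := Y) hT2' B.dat.AM_two (A := ⊤)
    (fun _ _ _ _ => trivial) (by
      intro h
      obtain ⟨a, ha⟩ := (B.dat.isIrr).ne
      have : a ∈ (⊤ : AddSubgroup (AM B.dat)) := trivial
      rw [h] at this
      exact ha this)
  have ha1 : a ∈ V1 B.dat := by rwa [h1V] at ha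
  obtain ⟨f, hf⟩ := exists_of_fix (allTv B.dat) B.dat.AM_two hT' hn0 hn (V1_le_img B.dat ha1)
    (fun t ht => haS t (mem_subgroupOf.1 ht) (hYM t t.2))
  -- `f(A) + rest` is invariant
  have hV : V ≤ (f : AM B.dat →+ U).range ⊔ B.rest 1 := by
    refine hgen _ ?_ ?_
    · intro y hy w hw
      obtain ⟨p, hp, r, hr, rfl⟩ := AddSubgroup.mem_sup.1 hw
      obtain ⟨x, rfl⟩ := hp
      rw [smul_add]
      refine AddSubgroup.add_mem _ (AddSubgroup.mem_sup_left ?_)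
        (AddSubgroup.mem_sup_right (B.rest_K (one_mem _) (B.YM_le hy) hr))
      obtain ⟨c', hc'⟩ := B.exists_ringK (op_mem (V := U) (B.YM_le hy))
      exact ⟨c' x, (hc' f x).symm⟩
    · rw [e]
      refine AddSubgroup.add_mem _ (AddSubgroup.mem_sup_left ?_) (AddSubgroup.mem_sup_right hb)
      exact ⟨n, hf.symm⟩
  refine ⟨f, fun g => ?_⟩
  obtain ⟨x, hx⟩ := (B.dat.isIrr).ne
  have hgV : (g : AM B.dat →+ U) x ∈ V1 B.dat := by
    obtain ⟨u, rfl⟩ := B.dat.mdl.psi_surj g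
    rw [Mdl.psi_apply, B.dat.bt_apply]
    exact br_mem_V1 B.dat x.val_mem u
  obtain ⟨p, ⟨y, rfl⟩, r, hr, hsum⟩ := AddSubgroup.mem_sup.1 (hV (V1_le B.dat hgV))
  have hfV : (f : AM B.dat →+ U) y ∈ V1 B.dat := by
    obtain ⟨u, rfl⟩ := B.dat.mdl.psi_surj f
    rw [Mdl.psi_apply, B.dat.bt_apply]
    exact br_mem_V1 B.dat y.val_mem u
  have hr0 : r = 0 := by
    have h2 : r ∈ (1 : H) • V1 B.dat ⊓ B.rest 1 := by
      refine AddSubgroup.mem_inf.2 ⟨?_, hr⟩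
      rw [h1V]
      have e2 : r = (g : AM B.dat →+ U) x - (f : AM B.dat →+ U) y := by rw [← hsum]; abel
      rw [e2]
      exact sub_mem hgV hfV
    rwa [B.indep (one_mem _), AddSubgroup.mem_bot] at h2
  rw [hr0, add_zero] at hsum
  exact HomY.fact hsum.symm hx

theorem card_AZM (D : Dat Y Q BB V F L C h) : Nat.card D.AZM = Nat.card D.AZ := by
  refine Nat.card_congr ⟨fun a => ⟨a.1.val, a.2⟩, fun x => ⟨AM.mk x.1 (D.AZ_le_AA x.2), x.2⟩, fun a => ?_, fun x => ?_⟩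
  · exact Subtype.ext (AM.ext rfl)
  · rfl

/-- **`V = ⟨z^{YM}⟩` implies `|V / F| ≤ |A₀|`.** -/
theorem relIndex_le_AZ (B : Blk0 Y Q BB V F L C h M KV S) (hall : V ≤ B.all) {z : U} (hzV : z ∈ V)
    (hz : ∀ s ∈ S, s • z = z)
    (hgen : ∀ W : AddSubgroup U, (∀ y ∈ B.YM, ∀ w ∈ W, y • w ∈ W) → z ∈ W → V ≤ W) :
    F.relIndex V ≤ Nat.card B.dat.AZ := by
  obtain ⟨f, hf⟩ := exists_one B hall hzV hz hgen
  rw [← card_AZM]
  exact relIndex_le B.dat.mdl hf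

end blk

end Cfsg.Agent.Omega.NO3b.CTwoFF
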