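import Cfsg.Agent.Omega.NO3b.CTwoFF.PFOf
import Cfsg.Agent.Omega.NO3b.Chain.Gam

/-!
# (C)(2) of GammaFF, part 5: `V(L) = ⟨Z^{YM}⟩`; `V_P` is not irreducible (helper194, #20969 (f3), (f4))

* `gen_YM` : `V(L) = ⟨Z^{YM}⟩`, if all `P' ∈ P*(S)`, `P' ≤ M(L)`, normalise `V_P`;
* `not_irr` : then `V_P` is not irreducible under `P`.
-/

set_option autoImplicit false

namespace Cfsg.Agent.Omega.NO3b.CTwoFF

open Subgroup Cfsg
open Cfsg.Agent.ZN (o2 zc zl jj zj)
open Cfsg.Agent.ZN.ChoiceBase hiding mem_zc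
open Cfsg.Agent.ZN.ChoiceSit (Syl o2_le_syl)
open Cfsg.Agent.Omega.MinPar Cfsg.Agent.Omega.Frame Cfsg.Agent.Omega.FrameNOFF
open Cfsg.Agent.Omega.NO3b.EZero (NotFF Par cent_symm oddGen_sup_syl)
open Cfsg.Agent.Omega.NO3b.Wc
open Cfsg.Agent.Omega.NO3b.Chain
open Cfsg.Agent.MinSimple.VModule (oddGen oddGen_le le_normalizer_zl zl_le le_centralizer_zc mem_zc zc_le_zl zc_sq
  zc_comm le_normalizer_oddGen le_normalizer_o2 normalizer_le_normalizer_zc)
open Cfsg.Agent.Omega.NO3b.Exit.Bridge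
open Cfsg.Agent.Omega.NO3b.Exit.LocBar (pr_mem_im im_mono im_smul)
open Cfsg.Agent.Omega.NO3b.Exit.BlkZ (Blk0 PF)
open Cfsg.Agent.Omega.FFBr (XX pr im mem_im)

universe u

variable {G : Type u} [Group G] [Finite G] {S : Sylow 2 G} {P L : Subgroup G}
  {H U : Subgroup G} (h : H ≤ normalizer (U : Set G)) {hcU : U ≤ centralizer (U : Set G)}

omit [Finite G] in
/-- `{g ∈ M | g W ≤ W}` in group terms -/
theorem mem_normalizer_un {W : AddSubgroup (MU hcU)} [Finite G] {g : G} (hg : g ∈ H)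
    (hW : ∀ w ∈ W, pr h ⟨g, hg⟩ • w ∈ W) : g ∈ normalizer (un W : Set G) := by
  rw [mem_normalizer_iff_cj]
  refine Subgroup.eq_of_le_of_card_ge ?_ (card_cj _ _).ge
  rintro _ ⟨_, ⟨w, hw, rfl⟩, rfl⟩
  exact ⟨_, hW w hw, rfl⟩

omit [Finite G] in
theorem smul_mem_of_normalizer {W : AddSubgroup (MU hcU)} {g : G} (hg : g ∈ H)
    (hn : g ∈ normalizer (un W : Set G)) {w : MU hcU} (hw : w ∈ W) : pr h ⟨g, hg⟩ • w ∈ W := by
  rw [← val_mem_un, val_smul]
  exact (mem_normalizer_iff.1 hn _).1 (val_mem_un.2 hw)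

/-- **`V(L) = ⟨Z^{YM}⟩`** -/
theorem gen_YM (hne : zc (S : Subgroup G) ≠ ⊥) (hL : Root S L) (_hPM : P ≤ ML (S : Subgroup G) L)
    (hN : ∀ P' : Subgroup G, IsParS (S : Subgroup G) P' → P' ≤ ML (S : Subgroup G) L →
      P' ≤ normalizer (zl (S : Subgroup G) P : Set G))
    (hMH : ML (S : Subgroup G) L ≤ H)
    (hVU : VL (S : Subgroup G) L ≤ U) {Y Q BB KV : Subgroup (XX h)} {F L₀ C : AddSubgroup (MU hcU)} {x : XX h}
    {B : Blk0 Y Q BB (ad hcU (VL (S : Subgroup G) L)) F L₀ C x (im h (ML (S : Subgroup G) L)) KV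
      (im h (S : Subgroup G))} (p : PF B (im h (oddGen P)) (ad hcU (zl (S : Subgroup G) P)))
    (W : AddSubgroup (MU hcU)) (hW : ∀ y ∈ B.YM, ∀ w ∈ W, y • w ∈ W)
    (hZ : ∀ z ∈ ad hcU (VL (S : Subgroup G) L), (∀ s ∈ im h (S : Subgroup G), s • z = z) → z ∈ W) :
    ad hcU (VL (S : Subgroup G) L) ≤ W := by
  have hZU : zc (S : Subgroup G) ≤ U := Root.zc_le_V.trans hVU
  -- `N = ⟨Z^{YM}⟩`
  let N : AddSubgroup (MU hcU) := AddSubgroup.closure {w | ∃ y ∈ B.YM, ∃ z ∈ ad hcU (zc (S : Subgroup G)), w = y • z}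
  have hNY : ∀ y ∈ B.YM, ∀ w ∈ N, y • w ∈ N := by
    intro y hy w hw
    induction hw using AddSubgroup.closure_induction with
    | mem w hw =>
      obtain ⟨y', hy', z, hz, rfl⟩ := hw
      exact AddSubgroup.subset_closure ⟨y * y', mul_mem hy hy', z, hz, (mul_smul _ _ _).symm⟩
    | zero => rw [smul_zero]; exact zero_mem _
    | add a b _ _ ha hb => rw [smul_add]; exact add_mem ha hb
    | neg a _ ha => rw [smul_neg]; exact neg_mem ha
  have hZN : ∀ z ∈ ad hcU (zc (S : Subgroup G)), z ∈ N := fun z hz =>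
    AddSubgroup.subset_closure ⟨1, one_mem _, z, hz, (one_smul _ _).symm⟩
  have hfix : ∀ v ∈ ad hcU (VL (S : Subgroup G) L), (∀ s ∈ im h (S : Subgroup G), s • v = v) →
      v ∈ ad hcU (zc (S : Subgroup G)) := by
    intro v hv hvS
    refine mem_zc_of hL hv (mem_centralizer_iff.2 fun s hs => ?_)
    exact (pr_smul_eq_iff' h).1 (hvS _ (pr_mem_im h hs (hMH (hL.S_le hs))))
  have hPN : ad hcU (zl (S : Subgroup G) P) ≤ N :=
    p.gen N (fun o ho w hw => hNY o (p.O_le ho) w hw) fun v hv hvS => hZN v (hfix v hv hvS)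
  -- elements which map `Z` into `N`
  have key : ∀ g (hg : g ∈ ML (S : Subgroup G) L), (∀ z ∈ ad hcU (zc (S : Subgroup G)), pr h ⟨g, hMH hg⟩ • z ∈ N) →
      g ∈ normalizer (un N : Set G) := by
    intro g hg hgZ
    refine mem_normalizer_un h (hMH hg) fun w hw => ?_
    induction hw using AddSubgroup.closure_induction with
    | mem w hw =>
      obtain ⟨y, hy, z, hz, rfl⟩ := hw
      have e : pr h ⟨g, hMH hg⟩ • y • z =
          (pr h ⟨g, hMH hg⟩ * y * (pr h ⟨g, hMH hg⟩)⁻¹) • pr h ⟨g, hMH hg⟩ • z := by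
        rw [smul_smul, smul_smul, inv_mul_cancel_right]
      rw [e]
      exact hNY _ (B.YM_conj (pr_mem_im h hg (hMH hg)) hy) _ (hgZ z hz)
    | zero => rw [smul_zero]; exact zero_mem _
    | add a b _ _ ha hb => rw [smul_add]; exact add_mem ha hb
    | neg a _ ha => rw [smul_neg]; exact neg_mem ha
  have hM : ML (S : Subgroup G) L ≤ normalizer (un N : Set G) := by
    have hzn : ∀ X : Subgroup G, X ≤ ML (S : Subgroup G) L → X ≤ normalizer (zc (S : Subgroup G) : Set G) →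
        X ≤ normalizer (un N : Set G) := by
      intro X hXM hXZ g hg
      refine key g (hXM hg) fun z hz => hZN _ ?_
      rw [mem_ad, val_smul]
      exact (mem_normalizer_iff.1 (hXZ hg) _).1 hz
    refine (isLoc_ML hL hne).le_of_forall S ?_ fun P' hP' hPM' => ?_
    · exact hzn _ inf_le_left (inf_le_right.trans (normalizer_le_normalizer_zc _))
    · by_cases hz : P' ≤ normalizer (zc (S : Subgroup G) : Set G)
      · exact hzn _ hPM' hz
      · intro g hg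
        refine key g (hPM' hg) fun z hz' => hPN ?_
        rw [mem_ad, val_smul]
        exact (mem_normalizer_iff.1 (hN P' ⟨hP', hz⟩ hPM' hg) _).1 (zc_le_zl _ _ hz')
  have h1 : ad hcU (VL (S : Subgroup G) L) ≤ N := by
    refine gen_bar_stage h hcU hMH hVU N ?_ fun v hv hvS => hZN v (hfix v hv hvS)
    rintro _ ⟨g, hg, rfl⟩ w hw
    exact smul_mem_of_normalizer h g.2 (hM hg) hw
  refine h1.trans ((AddSubgroup.closure_le _).2 ?_)
  rintro _ ⟨y, hy, z, hz, rfl⟩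
  refine hW y hy z (hZ z (Root.zc_le_V hz) ?_)
  rintro _ ⟨s, hs, rfl⟩
  exact (pr_smul_eq_iff' h).2 ((mem_zc.1 hz).2.1 _ hs)

/-- **`V_P` is not irreducible.** -/
theorem not_irr (hne : zc (S : Subgroup G) ≠ ⊥) (hPar : IsPar (S : Subgroup G) P)
    (hL : Root S L) (hPM : P ≤ ML (S : Subgroup G) L)
    (hN : ∀ P' : Subgroup G, IsParS (S : Subgroup G) P' → P' ≤ ML (S : Subgroup G) L →
      P' ≤ normalizer (zl (S : Subgroup G) P : Set G))
    (hMH : ML (S : Subgroup G) L ≤ H)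
    (hVU : VL (S : Subgroup G) L ≤ U) {Y Q BB KV : Subgroup (XX h)} {F L₀ C : AddSubgroup (MU hcU)} {x : XX h}
    {B : Blk0 Y Q BB (ad hcU (VL (S : Subgroup G) L)) F L₀ C x (im h (ML (S : Subgroup G) L)) KV
      (im h (S : Subgroup G))} (p : PF B (im h (oddGen P)) (ad hcU (zl (S : Subgroup G) P)))
    (hirr : ∀ A : Subgroup G, A ≤ zl (S : Subgroup G) P → P ≤ normalizer (A : Set G) →
      A = ⊥ ∨ A = zl (S : Subgroup G) P) : False := by
  obtain ⟨⟨z, hz⟩, hz1⟩ := Subgroup.ne_bot_iff_exists_ne_one.1 hne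
  have hz1' : z ≠ 1 := fun h0 => hz1 (Subtype.ext h0)
  have hPH : P ≤ H := hPM.trans hMH
  have hPV : zl (S : Subgroup G) P ≤ VL (S : Subgroup G) L := NOThreeL.Star.zl_mono _ hPM
  have hzP : z ∈ zl (S : Subgroup G) P := zc_le_zl _ _ hz
  set z' : MU hcU := mk hcU (hVU (hPV hzP)) with hz'
  have hzS : ∀ s ∈ im h (S : Subgroup G), s • z' = z' := by
    rintro _ ⟨s, hs, rfl⟩
    exact (pr_smul_eq_iff' h).2 ((mem_zc.1 hz).2.1 _ hs)
  have hlt := card_AZ_lt h hL.V_nff (ML_le_norm_V _ _) hMH hVU B.dat ((B.dat.QY.trans B.YK).trans B.KM)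
  refine absurd (relIndex_le_AZ B p.le_sum (z := z') (hPV hzP) hzS ?_) (not_le.2 hlt)
  intro W hW hzW
  -- `⟨z^{O²(P)}⟩`
  let N : AddSubgroup (MU hcU) := AddSubgroup.closure {w | ∃ o ∈ im h (oddGen P), w = o • z'}
  have hNW : N ≤ W := by
    refine (AddSubgroup.closure_le _).2 ?_
    rintro _ ⟨o, ho, rfl⟩
    exact hW o (p.O_le ho) _ hzW
  have hNV : N ≤ ad hcU (zl (S : Subgroup G) P) := by
    refine (AddSubgroup.closure_le _).2 ?_
    rintro _ ⟨o, ho, rfl⟩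
    exact p.VO o ho _ hzP
  have hmem : ∀ g (hg : g ∈ P), (∀ o ∈ im h (oddGen P), ∃ o' ∈ im h (oddGen P), pr h ⟨g, hPH hg⟩ • o • z' = o' • z') →
      g ∈ normalizer (un N : Set G) := by
    intro g hg hgo
    refine mem_normalizer_un h (hPH hg) fun w hw => ?_
    induction hw using AddSubgroup.closure_induction with
    | mem w hw =>
      obtain ⟨o, ho, rfl⟩ := hw
      obtain ⟨o', ho', e⟩ := hgo o ho
      exact AddSubgroup.subset_closure ⟨o', ho', e⟩
    | zero => rw [smul_zero]; exact zero_mem _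
    | add a b _ _ ha hb => rw [smul_add]; exact add_mem ha hb
    | neg a _ ha => rw [smul_neg]; exact neg_mem ha
  have hPN : P ≤ normalizer (un N : Set G) := by
    rw [← oddGen_sup hPar]
    refine sup_le (fun g hg => ?_) fun g hg => ?_
    · refine hmem g (oddGen_le P hg) fun o ho => ⟨_, mul_mem (pr_mem_im h hg (hPH (oddGen_le P hg))) ho, ?_⟩
      rw [mul_smul]
    · refine hmem g (hPar.le hg) fun o ho => ?_
      have hg' : g ∈ normalizer (oddGen P : Set G) := le_normalizer_oddGen P (hPar.le hg)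
      obtain ⟨⟨a, haH⟩, ha, rfl⟩ := mem_im.1 ho
      refine ⟨pr h ⟨g, hPH (hPar.le hg)⟩ * pr h ⟨a, haH⟩ * (pr h ⟨g, hPH (hPar.le hg)⟩)⁻¹, ?_, ?_⟩
      · rw [← map_mul, ← map_inv, ← map_mul]
        exact pr_mem_im h ((mem_normalizer_iff.1 hg' _).1 ha) _
      · have h1 : (pr h ⟨g, hPH (hPar.le hg)⟩)⁻¹ • z' = z' := by
          rw [inv_smul_eq_iff]
          exact (hzS _ (pr_mem_im h hg (hPH (hPar.le hg)))).symm
        rw [mul_smul, h1, mul_smul]
  have hunV : un N ≤ zl (S : Subgroup G) P := by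
    rintro _ ⟨w, hw, rfl⟩
    exact hNV hw
  have hzN : z ∈ un N := by
    refine ⟨z', AddSubgroup.subset_closure ⟨1, one_mem _, (one_smul _ _).symm⟩, rfl⟩
  have hVN : un N = zl (S : Subgroup G) P := by
    refine (hirr _ hunV hPN).resolve_left fun h0 => hz1' ?_
    rw [h0, mem_bot] at hzN
    exact hzN
  refine gen_YM h hne hL hPM hN hMH hVU p W hW fun v hv hvS => hNW ?_
  rw [← val_mem_un, hVN]
  exact p.fix v hv hvS

end Cfsg.Agent.Omega.NO3b.CTwoFF
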