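import Cfsg.Agent.Omega.NO3b.Chain.Group

/-!
# (C)(2) of GammaFF, part 1: LEMMA T over a local group which contains `P*(S)` (helper194, #20969)

`M` local, `V_{P'} ≤ V₀` for all `P' ∈ P*(S)` in `M`; `M` normalises `R`, `D = S ∩ R`.

* `lemT_norm` : if `[V₀, D] = 1` and `O²(X)` centralises `C_{V_M}(D)` for all `X ≤ C_M(Z)` with `O²(X) ≤ R`, then
  `[V_M, D] = 1`;
* `ne_norm` : **(NE)** for `P ≤ M(L)` with `V_{P'} ≤ V_P` for all `P' ∈ P*(S)`.
-/

set_option autoImplicit false

namespace Cfsg.Agent.Omega.NO3b.CTwoFF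

open Subgroup Cfsg
open Cfsg.Agent.ZN (o2 zc zl jj zj)
open Cfsg.Agent.ZN.ChoiceBase hiding mem_zc
open Cfsg.Agent.ZN.ChoiceSit (Syl o2_le_syl)
open Cfsg.Agent.Omega.MinPar Cfsg.Agent.Omega.Frame Cfsg.Agent.Omega.FrameNOFF
open Cfsg.Agent.Omega.NO3b.EZero (NotFF Par cent_symm oddGen_sup_syl)
open Cfsg.Agent.Omega.NO3b.Wc
open Cfsg.Agent.Omega.NO3b.Chain
open Cfsg.Agent.MinSimple.VModule (oddGen oddGen_le oddGen_le_of_sup le_normalizer_zl le_normalizer_o2 zl_le
  le_centralizer_zc zc_le_zl le_normalizer_oddGen mem_zc)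
open Cfsg.Agent.Omega.NO3b.Exit.Bridge
open Cfsg.Agent.Omega.NO3b.Exit.LocBar (pr_mem_im)
open Cfsg.Agent.Omega.FFBr (XX pr im mem_im)

universe u

variable {G : Type u} [Group G] [Finite G] {S : Sylow 2 G} {M V₀ R : Subgroup G}

/-- `P ∈ P(S)` which normalises `Z` centralises `Z`. -/
theorem le_centralizer_of_par {P : Subgroup G} (hP : IsPar (S : Subgroup G) P)
    (hz : P ≤ normalizer (zc (S : Subgroup G) : Set G)) : P ≤ centralizer (zc (S : Subgroup G) : Set G) := by
  have hS : (S : Subgroup G) ≤ centralizer (zc (S : Subgroup G) : Set G) := le_centralizer_zc _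
  rcases hP.sup_eq_or_inf_le S (N := P ⊓ centralizer (zc (S : Subgroup G) : Set G)) inf_le_left
    (le_normalizer_inf Subgroup.le_normalizer (le_normalizer_centralizer hz)) with h1 | h1
  · rw [← h1]
    exact sup_le inf_le_right hS
  · exfalso
    apply hP.not_le
    have h2 : (S : Subgroup G) ≤ o2 P := (le_inf le_rfl (le_inf hP.le hS)).trans h1
    have h3 : o2 P = (S : Subgroup G) := le_antisymm (hP.isLoc.o2_le S) h2
    rw [← h3]
    exact le_normalizer_o2 P

/-- **LEMMA T** over a local group. -/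
theorem lemT_norm (hc : IsCharacteristicTwoType G) (hM : IsLoc (S : Subgroup G) M)
    (hR : M ≤ normalizer (R : Set G))
    (hV : ∀ P' : Subgroup G, IsParS (S : Subgroup G) P' → P' ≤ M → zl (S : Subgroup G) P' ≤ V₀)
    (hX : ∀ X : Subgroup G, X ≤ M → X ≤ centralizer (zc (S : Subgroup G) : Set G) →
      oddGen X ≤ R → oddGen X ≤ centralizer ((zl (S : Subgroup G) M ⊓
        centralizer (((S : Subgroup G) ⊓ R : Subgroup G) : Set G) : Subgroup G) : Set G))
    (h0 : (S : Subgroup G) ⊓ R ≤ centralizer (V₀ : Set G)) :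
    (S : Subgroup G) ⊓ R ≤ centralizer (zl (S : Subgroup G) M : Set G) := by
  set D : Subgroup G := (S : Subgroup G) ⊓ R with hD
  set W : Subgroup G := zl (S : Subgroup G) M ⊓ centralizer (D : Set G) with hW
  have hWn : ∀ {X : Subgroup G}, X ≤ M → X ≤ normalizer (D : Set G) → X ≤ normalizer (W : Set G) :=
    fun hXM hXD => le_normalizer_inf (hXM.trans (le_normalizer_zl _ _)) (le_normalizer_centralizer hXD)
  have hSW : (S : Subgroup G) ≤ normalizer (W : Set G) :=
    hWn hM.le (le_normalizer_inf Subgroup.le_normalizer (hM.le.trans hR))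
  have key : M ≤ normalizer (W : Set G) := by
    refine hM.le_of_forall S ?_ fun P' hP' hPM => ?_
    · exact hWn inf_le_left (le_normalizer_inf inf_le_right (inf_le_left.trans hR))
    · have hoD : D ≤ o2 P' → P' ≤ normalizer (W : Set G) := by
        intro h1
        refine hWn hPM ?_
        have h2 : D = o2 P' ⊓ R :=
          le_antisymm (le_inf h1 inf_le_right) (inf_le_inf_right _ (hP'.isLoc.o2_le S))
        rw [h2]
        exact le_normalizer_inf (le_normalizer_o2 P') (hPM.trans hR)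
      by_cases hz : P' ≤ normalizer (zc (S : Subgroup G) : Set G)
      · rcases hP'.sup_eq_or_inf_le S (N := P' ⊓ R) inf_le_left
          (le_normalizer_inf Subgroup.le_normalizer (hPM.trans hR)) with h1 | h1
        · have h2 : oddGen P' ≤ R :=
            (oddGen_le_of_sup (le_normalizer_inf Subgroup.le_normalizer (hPM.trans hR)) h1.ge hP'.le inf_le_left
              S.isPGroup').trans inf_le_right
          have h3 := hX P' hPM (le_centralizer_of_par hP' hz) h2
          rw [← oddGen_sup hP']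
          exact sup_le (h3.trans (centralizer_le_normalizer _)) hSW
        · exact hoD ((le_inf inf_le_left (le_inf (inf_le_left.trans hP'.le) inf_le_right)).trans h1)
      · have hPs : IsParS (S : Subgroup G) P' := ⟨hP', hz⟩
        apply hoD
        rw [← IsParS.inf_centralizer S hc hPs]
        exact le_inf inf_le_left (h0.trans (centralizer_le (hV P' hPs hPM)))
  have h1 : zl (S : Subgroup G) M ≤ W := by
    refine zl_le (le_inf (zc_le_zl _ _) ?_) key
    exact cent_symm (inf_le_left.trans (le_centralizer_zc _))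
  exact cent_symm (h1.trans inf_le_right)

variable {P L : Subgroup G}

/-- `M(L)` is local. -/
theorem isLoc_ML (hL : Root S L) (hne : zc (S : Subgroup G) ≠ ⊥) :
    IsLoc (S : Subgroup G) (ML (S : Subgroup G) L) := by
  refine isLoc_of_le_normalizer S hL.S_le (S.isPGroup'.to_le (WH_le_S (S : Subgroup G) L)) (fun h0 => hne ?_) le_rfl
  exact le_bot_iff.1 (hL.zc_le_WH.trans h0.le)

variable {H U : Subgroup G} (h : H ≤ normalizer (U : Set G)) {hcU : U ≤ centralizer (U : Set G)}

/-- **(NE)** -/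
theorem ne_norm (hc : IsCharacteristicTwoType G) (hne : zc (S : Subgroup G) ≠ ⊥) (hPar : IsPar (S : Subgroup G) P)
    (hL : Root S L) (hPM : P ≤ ML (S : Subgroup G) L)
    (hV : ∀ P' : Subgroup G, IsParS (S : Subgroup G) P' → P' ≤ ML (S : Subgroup G) L →
      zl (S : Subgroup G) P' ≤ zl (S : Subgroup G) P)
    (hMH : ML (S : Subgroup G) L ≤ H) (hVU : VL (S : Subgroup G) L ≤ U)
    (N : Subgroup (XX h)) (hNM : ∀ m ∈ im h (ML (S : Subgroup G) L), ∀ n ∈ N, m * n * m⁻¹ ∈ N)
    (hN : ∀ x ∈ N, (∀ z ∈ ad hcU (VL (S : Subgroup G) L), (∀ s ∈ im h (S : Subgroup G), s • z = z) → x • z = z) →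
      ∀ v ∈ ad hcU (VL (S : Subgroup G) L), (∀ s ∈ im h (S : Subgroup G) ⊓ N, s • v = v) → x • v = v)
    (hmv : ¬ ∀ s ∈ im h (S : Subgroup G) ⊓ N, ∀ v ∈ ad hcU (VL (S : Subgroup G) L), s • v = v) :
    (¬ ∀ s ∈ im h (S : Subgroup G) ⊓ N, ∀ v ∈ ad hcU (zl (S : Subgroup G) P), s • v = v) ∧
      im h (oddGen P) ≤ N := by
  have hR := le_normalizer_pre h hMH hNM
  have hPV : zl (S : Subgroup G) P ≤ U := (NOThreeL.Star.zl_mono _ hPM).trans hVU
  have hX : ∀ X : Subgroup G, X ≤ ML (S : Subgroup G) L → X ≤ centralizer (zc (S : Subgroup G) : Set G) →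
      oddGen X ≤ pre h N → oddGen X ≤ centralizer ((VL (S : Subgroup G) L ⊓
        centralizer (((S : Subgroup G) ⊓ pre h N : Subgroup G) : Set G) : Subgroup G) : Set G) :=
    fun X _ hXZ hXN => fix_of h (hL.S_le.trans hMH) hVU hL N hN hXZ hXN
  have hmv' : ¬ (S : Subgroup G) ⊓ pre h N ≤ centralizer (VL (S : Subgroup G) L : Set G) :=
    fun h1 => hmv ((cent_iff h hVU).2 h1)
  have hT : ¬ (S : Subgroup G) ⊓ pre h N ≤ centralizer (zl (S : Subgroup G) P : Set G) :=
    fun h1 => hmv' (lemT_norm hc (isLoc_ML hL hne) hR hV hX h1)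
  exact ⟨fun h1 => hT ((cent_iff h hPV).1 h1),
    im_le h ((oddGen_le_or hc hPar (hPM.trans hR)).resolve_right hT)⟩

end Cfsg.Agent.Omega.NO3b.CTwoFF
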