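import Cfsg.Agent.Omega.NO3b.CTwoFF.NormT
import Cfsg.Agent.Omega.NO3b.CTwoFF.NF
import Cfsg.Agent.Omega.NO3b.Chain.ShapeP

/-!
# (C)(2) of GammaFF, part 4: the part of `P` (helper194, #20969; proofs as in helper255's `Chain/ShapeP.lean`)

`P ∈ P(S)`, `P ≤ M(L)`, `⟨P, C_G(Z)⟩` not local, (NE).

* `pf_of`, `gdat_of`, `shape_of` : `PF`, `GDat`, the shape of `V_P`, without a chain from `P` to `L`;
* `gen_YM` : `V(L) = ⟨Z^{YM}⟩`, if all `P' ∈ P*(S)` normalise `V_P`;
* `two_le` : `V_P` is not irreducible.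
-/

set_option autoImplicit false

namespace Cfsg.Agent.Omega.NO3b.CTwoFF

open Subgroup Cfsg
open Cfsg.Agent.ZN (o2 zc zl jj zj)
open Cfsg.Agent.ZN.ChoiceBase hiding mem_zc
open Cfsg.Agent.ZN.ChoiceSit (Syl o2_le_syl)
open Cfsg.Agent.Omega.MinPar Cfsg.Agent.Omega.Frame Cfsg.Agent.Omega.FrameNOFF
open Cfsg.Agent.Omega.NO3b.EZero (NotFF Par cent_symm oddGen_sup_syl)
open Cfsg.Agent.Omega.NO3b.Wc
open Cfsg.Agent.Omega.NO3b.Chain
open Cfsg.Agent.MinSimple.VModule (oddGen oddGen_le le_normalizer_zl zl_le le_centralizer_zc mem_zc zc_le_zl zc_sq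
  zc_comm le_normalizer_oddGen le_normalizer_o2)
open Cfsg.Agent.Omega.NO3b.Exit.Bridge
open Cfsg.Agent.Omega.NO3b.Exit.LocBar (pr_mem_im im_mono im_smul)
open Cfsg.Agent.Omega.NO3b.Exit.BlkZ (Blk0 PF)
open Cfsg.Agent.Omega.NO3b.Exit.Descent (ring op op_mem GDat)
open Cfsg.Agent.Omega.FFBr (XX pr im mem_im)

universe u

variable {G : Type u} [Group G] [Finite G] {S : Sylow 2 G} {P L : Subgroup G}

variable {H U : Subgroup G} (h : H ≤ normalizer (U : Set G)) {hcU : U ≤ centralizer (U : Set G)}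

/-- The part of `P`. -/
theorem pf_of (hc : IsCharacteristicTwoType G) (hPar : IsPar (S : Subgroup G) P)
    (hn : NonLoc P (CZ (S : Subgroup G))) (hL : Root S L) (hPM : P ≤ ML (S : Subgroup G) L)
    (hMH : ML (S : Subgroup G) L ≤ H)
    (hVU : VL (S : Subgroup G) L ≤ U) {Y Q BB KV : Subgroup (XX h)} {F L₀ C : AddSubgroup (MU hcU)} {x : XX h}
    (B : Blk0 Y Q BB (ad hcU (VL (S : Subgroup G) L)) F L₀ C x (im h (ML (S : Subgroup G) L)) KV
      (im h (S : Subgroup G)))
    (ne : ¬ ∀ s ∈ im h (S : Subgroup G) ⊓ B.YM, ∀ v ∈ ad hcU (zl (S : Subgroup G) P), s • v = v) :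
    PF B (im h (oddGen P)) (ad hcU (zl (S : Subgroup G) P)) := by
  have hPH : P ≤ H := hPM.trans hMH
  have hPV : zl (S : Subgroup G) P ≤ VL (S : Subgroup G) L := NOThreeL.Star.zl_mono _ hPM
  have hOV : oddGen P ≤ normalizer (zl (S : Subgroup G) P : Set G) := (oddGen_le P).trans (le_normalizer_zl _ _)
  refine
    { OM := im_mono h ((oddGen_le P).trans hPM)
      gen := ?_
      fix := ?_
      VO := fun o ho v hv => im_smul h hOV ho hv
      min := ?_
      ne := ?_
      cz := fun z hz hzS hzO => cz_im h hPar hn hL hPH z hz hzS hzO }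
  · intro W hW hWS
    have h1 : zl (S : Subgroup G) P ≤ un W := by
      refine zl_le_odd hPar ?_ ?_
      · intro z hzz
        have hzV : z ∈ VL (S : Subgroup G) L := Root.zc_le_V hzz
        refine ⟨mk hcU (hVU hzV), hWS _ hzV ?_, rfl⟩
        rintro _ ⟨a, ha, rfl⟩
        exact (pr_smul_eq_iff' h).2 ((mem_zc.1 hzz).2.1 _ ha)
      · rintro o ho _ ⟨w, hw, rfl⟩
        exact ⟨_, hW _ (pr_mem_im h ho (hPH (oddGen_le P ho))) w hw, rfl⟩
    intro w hw
    exact val_mem_un.1 (h1 hw)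
  · intro z hz hzS
    refine zc_le_zl _ _ (mem_zc_of hL hz (mem_centralizer_iff.2 fun s hs => ?_))
    exact (pr_smul_eq_iff' h).1 (hzS _ (pr_mem_im h hs (hPH (hPar.le hs))))
  · intro N _ hO hS
    rcases min_im h hc hPar hPH (hPV.trans hVU) N hO hS with h1 | h1
    · exact Or.inl h1
    · exact Or.inr fun s hs hsN v hv => h1 s ⟨hs, hsN⟩ v hv
  · by_contra hcon
    push Not at hcon
    exact ne fun s hs v hv => hcon s hs.1 hs.2 v hv

/-- `V_P` is abelian. -/
theorem zl_comm (hc : IsCharacteristicTwoType G) (hP : IsLoc (S : Subgroup G) P) :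
    zl (S : Subgroup G) P ≤ centralizer (zl (S : Subgroup G) P : Set G) := by
  intro x hx
  rw [mem_centralizer_iff]
  intro y hy
  exact zc_comm _ _ (hP.zl_le S hc hy) _ (hP.zl_le S hc hx)

theorem zl_sq (hc : IsCharacteristicTwoType G) (hP : IsLoc (S : Subgroup G) P) {v : G}
    (hv : v ∈ zl (S : Subgroup G) P) : v ^ 2 = 1 := zc_sq _ v (hP.zl_le S hc hv)

/-- `GDat` for `V_P` -/
theorem gdat_of (hc : IsCharacteristicTwoType G) (hPar : IsPar (S : Subgroup G) P)
    (hPM : P ≤ ML (S : Subgroup G) L) (hMH : ML (S : Subgroup G) L ≤ H)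
    (hVU : VL (S : Subgroup G) L ≤ U) {Y Q BB KV : Subgroup (XX h)} {F L₀ C : AddSubgroup (MU hcU)} {x : XX h}
    {B : Blk0 Y Q BB (ad hcU (VL (S : Subgroup G) L)) F L₀ C x (im h (ML (S : Subgroup G) L)) KV
      (im h (S : Subgroup G))} (p : PF B (im h (oddGen P)) (ad hcU (zl (S : Subgroup G) P))) :
    GDat (zl (S : Subgroup G) P) (oddGen P) (S : Subgroup G) := by
  have hPH : P ≤ H := hPM.trans hMH
  have hPV : zl (S : Subgroup G) P ≤ VL (S : Subgroup G) L := NOThreeL.Star.zl_mono _ hPM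
  have hOV : oddGen P ≤ normalizer (zl (S : Subgroup G) P : Set G) := (oddGen_le P).trans (le_normalizer_zl _ _)
  have hfix : ∀ z (hz : z ∈ zl (S : Subgroup G) P), z ∈ centralizer ((S : Subgroup G) : Set G) →
      ∀ s ∈ im h (S : Subgroup G), s • (mk hcU (hVU (hPV hz))) = mk hcU (hVU (hPV hz)) := by
    rintro z hz hzS _ ⟨a, ha, rfl⟩
    exact (pr_smul_eq_iff' h).2 (mem_centralizer_iff.1 hzS _ ha)
  exact
    { comm := zl_comm hc hPar.isLoc
      sq := fun v hv => by rw [← sq]; exact zl_sq hc hPar.isLoc hv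
      two := S.isPGroup'
      SV := hPar.le.trans (le_normalizer_zl _ _)
      XV := hOV
      SX := hPar.le.trans (le_normalizer_oddGen P)
      gen := by
        intro A hAV hOA hZA
        refine le_antisymm hAV (zl_le_odd hPar ?_ fun o ho a ha => (mem_normalizer_iff.1 (hOA ho) a).1 ha)
        intro z hz
        exact hZA ⟨zc_le_zl _ _ hz, mem_centralizer_iff.2 fun s hs => (mem_zc.1 hz).2.1 s hs⟩
      ann := by
        intro z z' hz hz1 hzS hz' hzS' l hl h0
        obtain ⟨c, hcK, h1⟩ := exists_ring_list (hcU := hcU) h ((oddGen_le P).trans hPH)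
          (p.O_le.trans B.YM_le) l hl
        have h2 := p.ann (z := mk hcU (hVU (hPV hz))) (z' := mk hcU (hVU (hPV hz'))) (hPV hz)
          (fun h3 => hz1 (congrArg val h3)) (hfix z hz hzS) (hPV hz') (hfix z' hz' hzS') hcK
          (val_inj (by rw [h1]; exact h0))
        have h3 := congrArg val h2
        rw [h1] at h3
        exact h3 }

/-- **The shape of `V_P`.** -/
theorem shape_of (hc : IsCharacteristicTwoType G) (hne : zc (S : Subgroup G) ≠ ⊥)
    (hPar : IsPar (S : Subgroup G) P) (hn : NonLoc P (CZ (S : Subgroup G)))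
    (hPM : P ≤ ML (S : Subgroup G) L) (hMH : ML (S : Subgroup G) L ≤ H)
    (hVU : VL (S : Subgroup G) L ≤ U) {Y Q BB KV : Subgroup (XX h)} {F L₀ C : AddSubgroup (MU hcU)} {x : XX h}
    {B : Blk0 Y Q BB (ad hcU (VL (S : Subgroup G) L)) F L₀ C x (im h (ML (S : Subgroup G) L)) KV
      (im h (S : Subgroup G))} (p : PF B (im h (oddGen P)) (ad hcU (zl (S : Subgroup G) P))) :
    ∃ (k : ℕ) (E : Fin k → Subgroup G), 0 < k ∧ iSupIndep E ∧ (⨆ j, E j) = zl (S : Subgroup G) P ∧
      (∀ j, P ≤ normalizer (E j : Set G)) ∧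
      (∀ j, ∀ A : Subgroup G, A ≤ E j → P ≤ normalizer (A : Set G) → A = ⊥ ∨ A = E j) ∧
      (∀ j, ¬ E j ≤ centralizer (oddGen P : Set G)) ∧
      ∀ i j, ∃ f : E i ≃* E j, (∀ y ∈ oddGen P, ∀ v w : E i, (w : G) = y * v * y⁻¹ → (f w : G) = y * f v * y⁻¹) ∧
        ∀ s ∈ (S : Subgroup G), ∀ v w : E i, (w : G) = s * v * s⁻¹ → (f w : G) = s * f v * s⁻¹ := by
  obtain ⟨k, E, h1, h2, h3, h4, h5, h6, h7, h8⟩ := (gdat_of h hc hPar hPM hMH hVU p).exists_pow
  have hPE : ∀ j, P ≤ normalizer (E j : Set G) := by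
    intro j
    have h9 : oddGen P ⊔ (S : Subgroup G) ≤ normalizer (E j : Set G) := sup_le (h5 j) (h6 j)
    rwa [oddGen_sup hPar] at h9
  refine ⟨k, E, ?_, h2, h3, hPE, ?_, ?_, h8⟩
  · rcases Nat.eq_zero_or_pos k with rfl | h0
    · exfalso
      apply hne
      rw [iSup_of_empty] at h3
      exact le_bot_iff.1 ((zc_le_zl _ _).trans h3.ge)
    · exact h0
  · intro j A hA hPA
    by_cases hA1 : A = ⊥
    · exact Or.inl hA1
    · exact Or.inr (h7 j A hA hA1 ((oddGen_le P).trans hPA) (hPar.le.trans hPA))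
  · intro j hcen
    -- a fixed point of `S` on `E j`
    have hEV : E j ≤ zl (S : Subgroup G) P := h1 j
    have hE2 : IsPGroup 2 (E j) := fun x => ⟨1, Subtype.ext (by
      have h9 := zl_sq hc hPar.isLoc (hEV x.2)
      simpa using h9)⟩
    have h9 := PLocal.OffenderStep.inf_centralizer_ne_bot (E j) (S : Subgroup G) hE2 S.isPGroup' (h6 j) (h4 j)
    obtain ⟨z, hz1⟩ := Subgroup.ne_bot_iff_exists_ne_one.1 h9
    apply hz1
    have hzE := (mem_inf.1 z.2).1
    have hzS := (mem_inf.1 z.2).2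
    have hzs : (z : G) ∈ (S : Subgroup G) := MinPar.le_of_le_normalizer S hE2 (h6 j) hzE
    have hzc : (z : G) ∈ zc (S : Subgroup G) :=
      mem_zc.2 ⟨hzs, fun s hs => mem_centralizer_iff.1 hzS s hs, zl_sq hc hPar.isLoc (hEV hzE)⟩
    have h10 : P ≤ centralizer ((zpowers (z : G) : Subgroup G) : Set G) := by
      rw [← oddGen_sup hPar]
      refine sup_le ?_ ?_
      · rw [le_centralizer_iff, zpowers_le]
        exact hcen hzE
      · refine (le_centralizer_zc _).trans (centralizer_le ?_)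
        exact (zpowers_le.2 hzc)
    have h11 := hn (zpowers (z : G)) (S.isPGroup'.to_le ((zpowers_le.2 hzc).trans
      (MinSimple.VModule.zc_le _))) (h10.trans (centralizer_le_normalizer _)) (by
        refine le_trans ?_ (centralizer_le_normalizer _)
        exact centralizer_le (zpowers_le.2 hzc))
    rw [zpowers_eq_bot] at h11
    exact Subtype.ext h11

end Cfsg.Agent.Omega.NO3b.CTwoFF
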