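import Cfsg.Agent.Omega.NO3b.CTwoFF.End
import Cfsg.Agent.Omega.NO3S.Level.Gamma
import Cfsg.Agent.Omega.NO3S.Gamma.Plug

/-!
# The sockets `GamTwo` (helper781's cut) and `NfRoot` (helper555's cut) of `GammaFF`

`ctwo` (`CTwoFF/End.lean`): the 4th branch of `Level.cut` does not occur.
-/

set_option autoImplicit false

namespace Cfsg.Agent.Omega.NO3b.CTwoFF

open Cfsg.Agent.Omega.Frame (Cls)

universe u

/-- **(C)(2)** -/
theorem gamTwo (K : Cls.{u}) : NO3S.GamTwo K := fun _ _ _ _ _ w r _ hR he => (ctwo w r hR he).elim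

theorem nfRoot (K : Cls.{u}) : NO3S.GammaPlug.NfRoot K := fun _ _ _ _ _ _ w r hR he => (ctwo w r hR he).elim

end Cfsg.Agent.Omega.NO3b.CTwoFF
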